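import Cfsg.Agent.SylowCyclicInt.Central
import Cfsg.Agent.PLocal.Cores
import Cfsg.Agent.Solvable.Fitting

/-!
# The solvable radical when Sylow 2-subgroups meet in cyclic groups
-/

set_option autoImplicit false
set_option linter.style.haveILetI false

namespace CfsgLib.SylowCyclicInt

open Subgroup

universe u

/-- With trivial odd core a solvable normal subgroup is a cyclic central 2-group. -/
theorem radical_of_core_eq_bot {X : Type u} [Group X] [Finite X] (hns : ¬ Group.IsSolvable X)
    (hmeet : ∀ S T : Sylow 2 X, S ≠ T → IsCyclic ↥((S : Subgroup X) ⊓ (T : Subgroup X)))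
    (hO : ∀ M : Subgroup X, M.Normal → Odd (Nat.card M) → M = ⊥)
    (N : Subgroup X) [N.Normal] (hN : Group.IsSolvable N) :
    IsCyclic N ∧ IsPGroup 2 N ∧ N ≤ Subgroup.center X := by
  classical
  haveI : Fact (Nat.Prime 2) := ⟨Nat.prime_two⟩
  haveI := hN
  haveI : (Cfsg.pCore 2 X).Normal := Solvable.pCore_normal 2
  set V := Cfsg.pCore 2 X ⊓ N with hV
  obtain ⟨S⟩ : Nonempty (Sylow 2 X) := inferInstance
  obtain ⟨T, hT⟩ := exists_sylow_ne hns S
  have hVc : IsCyclic V := by
    haveI := hmeet T S hT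
    exact isCyclic_of_injective
      (Subgroup.inclusion (show V ≤ (T : Subgroup X) ⊓ (S : Subgroup X) from
        le_inf (inf_le_left.trans (Solvable.pCore_le_sylow T))
          (inf_le_left.trans (Solvable.pCore_le_sylow S))))
      (Subgroup.inclusion_injective _)
  have hV2 : IsPGroup 2 V := (Solvable.isPGroup_pCore 2).to_le inf_le_left
  have hVn : V.Normal := inferInstance
  have hVcen : V ≤ Subgroup.center X := by
    by_cases h4 : ∃ v ∈ V, v ^ 2 ≠ 1
    · exact Hyp.le_center ⟨hmeet, hVn, hVc, hV2, h4⟩ hns hO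
    · push Not at h4
      intro v hv
      refine Subgroup.mem_center_iff.2 fun g => ?_
      by_cases hv1 : v = 1
      · simp [hv1]
      have hc := hVn.conj_mem v hv g
      obtain ⟨n, hn⟩ := mem_zpowers_iff.1 (mem_of_pow_card hVc (zpowers_le.2 hv) hc (by
        rw [Nat.card_zpowers, orderOf_eq_prime (h4 v hv) hv1]
        exact h4 _ hc))
      rcases Int.even_or_odd n with ⟨l, rfl⟩ | ⟨l, rfl⟩
      · exfalso
        rw [← two_mul, zpow_mul, show v ^ (2 : ℤ) = 1 by exact_mod_cast h4 v hv, one_zpow] at hn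
        exact hv1 (by simpa [mul_inv_eq_one] using hn.symm)
      · rw [zpow_add, zpow_mul, show v ^ (2 : ℤ) = 1 by exact_mod_cast h4 v hv, one_zpow, one_mul,
          zpow_one] at hn
        exact mul_inv_eq_iff_eq_mul.1 hn.symm
  suffices hNV : N ≤ V by
    exact ⟨isCyclic_of_injective (Subgroup.inclusion hNV) (Subgroup.inclusion_injective _),
      hV2.to_le hNV, hNV.trans hVcen⟩
  by_contra hnot
  let D : ℕ → Subgroup X := fun d => (derivedSeries ↥N d).map N.subtype
  have hex : ∃ d, D d ≤ V := by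
    obtain ⟨d, hd⟩ := (Group.isSolvable_def ↥N).1 hN
    exact ⟨d, by simp [D, hd]⟩
  obtain ⟨d, hd⟩ : ∃ d, Nat.find hex = d + 1 := Nat.exists_eq_succ_of_ne_zero fun e => by
    have := Nat.find_spec hex
    rw [e] at this
    exact hnot (le_trans (by simp [D, ← MonoidHom.range_eq_map]) this)
  have hdn : ¬ D d ≤ V := Nat.find_min hex (by omega)
  have hd1 : ⁅D d, D d⁆ ≤ V := by
    have := Nat.find_spec hex
    rw [hd] at this
    simpa [D, derivedSeries_succ, Subgroup.map_commutator] using this
  haveI : (D d).Normal := by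
    haveI : (derivedSeries ↥N d).Characteristic := derivedSeries_characteristic _ d
    exact ConjAct.normal_of_characteristic_of_normal
  set E := D d ⊔ V with hE
  haveI : E.Normal := Subgroup.sup_normal _ _
  have hEcomm : ∀ a ∈ E, ∀ b ∈ E, a * b * a⁻¹ * b⁻¹ ∈ V := by
    intro a ha b hb
    have hmap : E.map (QuotientGroup.mk' V) = (D d).map (QuotientGroup.mk' V) := by
      have hVb : V.map (QuotientGroup.mk' V) = ⊥ :=
        (Subgroup.map_eq_bot_iff V).2 (by rw [QuotientGroup.ker_mk'])
      rw [hE, Subgroup.map_sup, hVb, sup_bot_eq]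
    obtain ⟨a', ha', ea⟩ := hmap.le ⟨a, ha, rfl⟩
    obtain ⟨b', hb', eb⟩ := hmap.le ⟨b, hb, rfl⟩
    have h1 : QuotientGroup.mk' V (a' * b' * a'⁻¹ * b'⁻¹) = 1 :=
      (QuotientGroup.eq_one_iff _).2 (hd1 (Subgroup.commutator_mem_commutator ha' hb'))
    refine (QuotientGroup.eq_one_iff _).1 ?_
    show QuotientGroup.mk' V (a * b * a⁻¹ * b⁻¹) = 1
    rw [← h1]
    simp only [map_mul, map_inv, ea, eb]
  haveI hnil : Group.IsNilpotent ↥E := by
    haveI : (V.subgroupOf E).Normal := hVn.subgroupOf E
    haveI : Group.IsNilpotent (↥E ⧸ V.subgroupOf E) := by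
      have hab : ∀ a b : ↥E ⧸ V.subgroupOf E, a * b = b * a := fun a b => by
        obtain ⟨a, rfl⟩ := QuotientGroup.mk_surjective a
        obtain ⟨b, rfl⟩ := QuotientGroup.mk_surjective b
        rw [← QuotientGroup.mk_mul, ← QuotientGroup.mk_mul, QuotientGroup.eq,
          Subgroup.mem_subgroupOf]
        have := hEcomm _ (inv_mem b.2) _ (inv_mem a.2)
        simpa [mul_assoc] using this
      letI : CommGroup (↥E ⧸ V.subgroupOf E) := { mul_comm := hab }
      exact CommGroup.isNilpotent
    refine Subgroup.isNilpotent_of_ker_le_center (QuotientGroup.mk' (V.subgroupOf E)) ?_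
    rw [QuotientGroup.ker_mk']
    intro v hv
    exact Subgroup.mem_center_iff.2 fun g =>
      Subtype.ext (Subgroup.mem_center_iff.1 (hVcen hv) g)
  have hE2 : IsPGroup 2 ↥E := by
    refine IsPGroup.of_card (n := (Nat.card ↥E).primeFactorsList.length)
      (Nat.eq_prime_pow_of_unique_prime_dvd Nat.card_pos.ne' fun {q} hq hqd => ?_)
    by_contra hq2
    haveI : Fact q.Prime := ⟨hq⟩
    obtain ⟨Q⟩ : Nonempty (Sylow q ↥E) := inferInstance
    have hQn : (Q : Subgroup ↥E).Normal :=
      inferInstance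
    haveI := Sylow.characteristic_of_normal Q hQn
    have hbot := hO ((Q : Subgroup ↥E).map E.subtype) ConjAct.normal_of_characteristic_of_normal (by
      rw [Subgroup.card_map_of_injective E.subtype_injective, Q.card_eq_multiplicity]
      exact (hq.odd_of_ne_two hq2).pow)
    refine Q.ne_bot_of_dvd_card hqd ?_
    exact Subgroup.map_injective E.subtype_injective (by rw [hbot, Subgroup.map_bot])
  refine hdn (le_inf (le_trans le_sup_left (Solvable.le_pCore hE2)) ?_)
  exact map_subtype_le _

/-- The general form. -/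
theorem radical {G : Type u} [Group G] [Finite G] (hns : ¬ Group.IsSolvable G)
    (hC : ∀ S T : Sylow 2 G, S ≠ T → IsCyclic ↥((S : Subgroup G) ⊓ (T : Subgroup G)))
    (N : Subgroup G) [N.Normal] (hN : Group.IsSolvable ↥N) :
    IsCyclic ↥(N.map (QuotientGroup.mk' (Cfsg.oddCore G))) ∧
      IsPGroup 2 ↥(N.map (QuotientGroup.mk' (Cfsg.oddCore G))) ∧
      N.map (QuotientGroup.mk' (Cfsg.oddCore G)) ≤ Subgroup.center (G ⧸ Cfsg.oddCore G) := by
  classical
  haveI : Fact (Nat.Prime 2) := ⟨Nat.prime_two⟩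
  set O := Cfsg.oddCore G with hOdef
  set π := QuotientGroup.mk' O with hπ
  have hsurj : Function.Surjective π := QuotientGroup.mk'_surjective O
  have hOodd : Odd (Nat.card O) :=
    Nat.coprime_two_right.1 (PLocal.coprime_card_pPrimeCore 2 G)
  have hns' : ¬ Group.IsSolvable (G ⧸ O) := fun h =>
    hns (SolvCrit.isSolvable_of_normal_of_quotient O (Cfsg.Agent.S0205.result hOodd) h)
  have hO' : ∀ M : Subgroup (G ⧸ O), M.Normal → Odd (Nat.card M) → M = ⊥ := by
    intro M hM hodd
    haveI := hM
    have hle : M.comap π ≤ O := PLocal.le_pPrimeCore (by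
      have hc : Nat.card ↥(M.comap π) = Nat.card O * Nat.card M := by
        let f : ↥(M.comap π) →* ↥M := (π.comp (M.comap π).subtype).codRestrict M fun x => x.2
        have hker : f.ker = O.subgroupOf (M.comap π) := by
          ext x
          rw [MonoidHom.mem_ker, ← Subtype.coe_inj, Subgroup.mem_subgroupOf]
          exact QuotientGroup.eq_one_iff _
        have hf : Function.Surjective f := fun y => by
          obtain ⟨x, hx⟩ := hsurj (y : G ⧸ O)
          exact ⟨⟨x, by show π x ∈ M; rw [hx]; exact y.2⟩, Subtype.ext hx⟩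
        have hOle : O ≤ M.comap π := fun o ho => by
          show π o ∈ M
          rw [show π o = 1 from (QuotientGroup.eq_one_iff o).2 ho]
          exact one_mem M
        rw [← Subgroup.card_mul_index f.ker, Subgroup.index_eq_card,
          Nat.card_congr (QuotientGroup.quotientKerEquivOfSurjective f hf).toEquiv, hker,
          Nat.card_congr (subgroupOfEquivOfLe hOle).toEquiv]
      rw [hc, Nat.coprime_two_right]
      exact hOodd.mul hodd)
    rw [eq_bot_iff]
    intro y hy
    obtain ⟨x, rfl⟩ := hsurj y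
    exact (QuotientGroup.eq_one_iff x).2 (hle hy)
  have hmeet : ∀ A B : Sylow 2 (G ⧸ O), A ≠ B →
      IsCyclic ↥((A : Subgroup (G ⧸ O)) ⊓ (B : Subgroup (G ⧸ O))) := by
    intro A B hne
    obtain ⟨S₀, rfl⟩ := Sylow.mapSurjective_surjective hsurj 2 A
    obtain ⟨T₀, rfl⟩ := Sylow.mapSurjective_surjective hsurj 2 B
    set H := ((S₀.mapSurjective hsurj : Sylow 2 (G ⧸ O)) : Subgroup (G ⧸ O)) ⊓
      ((T₀.mapSurjective hsurj : Sylow 2 (G ⧸ O)) : Subgroup (G ⧸ O)) with hH
    obtain ⟨R⟩ : Nonempty (Sylow 2 ↥(H.comap π)) := inferInstance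
    have hlift : ∀ A₀ : Sylow 2 G,
        H ≤ ((A₀.mapSurjective hsurj : Sylow 2 (G ⧸ O)) : Subgroup (G ⧸ O)) →
        ∃ A₁ : Sylow 2 G, A₁.mapSurjective hsurj = A₀.mapSurjective hsurj ∧
          (R : Subgroup ↥(H.comap π)).map (H.comap π).subtype ≤ (A₁ : Subgroup G) := by
      intro A₀ hle
      set L := ((A₀ : Subgroup G).map π).comap π
      have hR : (R : Subgroup ↥(H.comap π)).map (H.comap π).subtype ≤ L :=
        (map_subtype_le _).trans (Subgroup.comap_mono (by rwa [Sylow.coe_mapSurjective] at hle))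
      obtain ⟨Q, hQ⟩ := ((R.2.map _).of_equiv (subgroupOfEquivOfLe hR).symm).exists_le_sylow
      obtain ⟨l, hl⟩ := MulAction.exists_smul_eq ↥L (A₀.subtype (show (A₀ : Subgroup G) ≤ L from
        Subgroup.le_comap_map π _)) Q
      obtain ⟨a, ha, hal⟩ := l.2
      refine ⟨(l : G) • A₀, Sylow.ext ?_, fun r hr => ?_⟩
      · have hla : π (l : G) ∈ (A₀ : Subgroup G).map π := ⟨a, ha, hal⟩
        rw [Sylow.coe_mapSurjective, Sylow.coe_mapSurjective]
        ext y
        constructor
        · rintro ⟨x, hx, rfl⟩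
          rw [Sylow.coe_subgroup_smul, SetLike.mem_coe, mem_pointwise_smul_iff_inv_smul_mem,
            ← map_inv, MulAut.smul_def, MulAut.conj_apply, inv_inv] at hx
          have h1 := Subgroup.mem_map_of_mem π hx
          rw [map_mul, map_mul, map_inv] at h1
          have h2 := mul_mem (mul_mem hla h1) (inv_mem hla)
          simpa [mul_assoc] using h2
        · intro hy
          obtain ⟨x, hx, hxy⟩ := mul_mem (mul_mem (inv_mem hla) hy) hla
          refine ⟨(l : G) * x * (l : G)⁻¹, ?_, ?_⟩
          · rw [Sylow.coe_subgroup_smul, SetLike.mem_coe, mem_pointwise_smul_iff_inv_smul_mem,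
              ← map_inv, MulAut.smul_def, MulAut.conj_apply]
            simp only [mul_assoc, inv_inv, inv_mul_cancel_left, inv_mul_cancel, mul_one]
            exact hx
          · rw [map_mul, map_mul, map_inv, hxy]
            group
      · have hrQ : (⟨r, hR hr⟩ : ↥L) ∈ (Q : Subgroup ↥L) := hQ hr
        rw [← hl, Sylow.coe_subgroup_smul, mem_pointwise_smul_iff_inv_smul_mem, ← map_inv,
          MulAut.smul_def, MulAut.conj_apply, Sylow.coe_subtype, Subgroup.mem_subgroupOf] at hrQ
        rw [Sylow.coe_subgroup_smul, mem_pointwise_smul_iff_inv_smul_mem, ← map_inv,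
          MulAut.smul_def, MulAut.conj_apply]
        simpa using hrQ
    obtain ⟨S, hS, hRS⟩ := hlift S₀ inf_le_left
    obtain ⟨T, hT, hRT⟩ := hlift T₀ inf_le_right
    have hST : S ≠ T := fun e => hne (by rw [← hS, ← hT, e])
    haveI := hC S T hST
    haveI : IsCyclic ↥((R : Subgroup ↥(H.comap π)).map (H.comap π).subtype) :=
      isCyclic_of_injective (Subgroup.inclusion (le_inf hRS hRT)) (Subgroup.inclusion_injective _)
    let f : ↥(H.comap π) →* ↥H := (π.comp (H.comap π).subtype).codRestrict H fun x => x.2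
    have hf : Function.Surjective f := fun y => by
      obtain ⟨x, hx⟩ := hsurj (y : G ⧸ O)
      exact ⟨⟨x, by show π x ∈ H; rw [hx]; exact y.2⟩, Subtype.ext hx⟩
    have hH2 : IsPGroup 2 ↥H := (S₀.mapSurjective hsurj).2.to_le inf_le_left
    have htop : (R.mapSurjective hf : Subgroup ↥H) = ⊤ :=
      ((R.mapSurjective hf).3 (hH2.to_subgroup ⊤) le_top).symm
    haveI : IsCyclic (R : Subgroup ↥(H.comap π)) :=
      (MulEquiv.isCyclic (equivMapOfInjective _ _ (H.comap π).subtype_injective)).2 inferInstance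
    refine isCyclic_of_surjective (f.comp (R : Subgroup ↥(H.comap π)).subtype) fun y => ?_
    have hy : y ∈ (R.mapSurjective hf : Subgroup ↥H) := htop ▸ Subgroup.mem_top y
    rw [Sylow.coe_mapSurjective] at hy
    obtain ⟨x, hx, hxy⟩ := hy
    exact ⟨⟨x, hx⟩, hxy⟩
  haveI : (N.map π).Normal := Subgroup.Normal.map inferInstance π hsurj
  refine radical_of_core_eq_bot hns' hmeet hO' (N.map π) ?_
  haveI := hN
  exact Group.isSolvable_of_surjective (π.subgroupMap_surjective N)

end CfsgLib.SylowCyclicInt
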