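import Cfsg.Agent.SylowCyclicInt.Rigid
import Cfsg.Agent.ZStar.Theorem
import Cfsg.Agent.S0205
import Cfsg.Agent.FT.MetacyclicSylow
import Cfsg.Agent.Coprime.Action
import Cfsg.Agent.Derangement.Subgroup
import Cfsg.Agent.Solvable.Nilpotent

/-!
# Cyclic normal 2-subgroups are central

In a non-solvable group with trivial odd core whose distinct Sylow 2-subgroups meet in cyclic
groups, a cyclic normal 2-subgroup is central.
-/

set_option autoImplicit false
set_option linter.unusedSectionVars false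
set_option linter.style.haveILetI false

namespace CfsgLib.SylowCyclicInt

open Subgroup

universe u

variable {G : Type u} [Group G] [Finite G]

theorem oddSolvable : CfsgLib.FT.OddSolvable.{u} := fun _ _ _ hK => Cfsg.Agent.S0205.result hK

theorem exists_sylow_ne (hns : ¬ Group.IsSolvable G) (S : Sylow 2 G) : ∃ T : Sylow 2 G, T ≠ S := by
  haveI : Fact (Nat.Prime 2) := ⟨Nat.prime_two⟩
  by_contra hno
  push Not at hno
  have hN : (S : Subgroup G).Normal := by
    rw [← normalizer_eq_top_iff, eq_top_iff]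
    exact fun g _ => Sylow.smul_eq_iff_mem_normalizer.1 (hno _)
  refine hns (SolvCrit.isSolvable_of_normal_of_quotient (S : Subgroup G) ?_ ?_)
  · haveI := S.2.isNilpotent
    infer_instance
  · refine Cfsg.Agent.S0205.result ?_
    rw [← Subgroup.index_eq_card, ← Nat.not_even_iff_odd, even_iff_two_dvd]
    exact S.not_dvd_index

namespace Hyp

variable {V : Subgroup G} (h : Hyp V)
include h

theorem exists_conj_exponent : ∀ g : G, ∃ k : ℤ, ∀ v ∈ V, g * v * g⁻¹ = v ^ k := by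
  intro g
  haveI := h.cyclic
  obtain ⟨⟨v₀, hv₀⟩, hgen⟩ := IsCyclic.exists_generator (α := V)
  obtain ⟨k, hk⟩ := hgen ⟨_, h.normal.conj_mem v₀ hv₀ g⟩
  refine ⟨k, fun v hv => ?_⟩
  obtain ⟨l, hl⟩ := hgen ⟨v, hv⟩
  have hk' : v₀ ^ k = g * v₀ * g⁻¹ := congrArg Subtype.val hk
  have hl' : v₀ ^ l = v := congrArg Subtype.val hl
  rw [← hl', ← conj_zpow, ← hk', ← zpow_mul, ← zpow_mul, mul_comm]

theorem commutator_mem (a b : G) : a * b * a⁻¹ * b⁻¹ ∈ centralizer (V : Set G) := by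
  refine mem_centralizer_iff.2 fun v hv => ?_
  obtain ⟨i, hi⟩ := h.exists_conj_exponent a
  obtain ⟨j, hj⟩ := h.exists_conj_exponent b
  have e : ∀ w ∈ V, a * b * w * (a * b)⁻¹ = b * a * w * (b * a)⁻¹ := by
    intro w hw
    calc a * b * w * (a * b)⁻¹ = a * (b * w * b⁻¹) * a⁻¹ := by group
      _ = (w ^ j) ^ i := by rw [hj w hw, hi _ (zpow_mem hw j)]
      _ = (w ^ i) ^ j := by rw [← zpow_mul, ← zpow_mul, mul_comm]
      _ = b * (a * w * a⁻¹) * b⁻¹ := by rw [hi w hw, hj _ (zpow_mem hw i)]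
      _ = b * a * w * (b * a)⁻¹ := by group
  have := e ((b * a)⁻¹ * v * (b * a)) (by simpa using h.normal.conj_mem v hv (b * a)⁻¹)
  rw [show b * a * ((b * a)⁻¹ * v * (b * a)) * (b * a)⁻¹ = v by group] at this
  calc v * (a * b * a⁻¹ * b⁻¹)
      = a * b * ((b * a)⁻¹ * v * (b * a)) * (a * b)⁻¹ * (a * b * a⁻¹ * b⁻¹) := by rw [this]
    _ = a * b * a⁻¹ * b⁻¹ * v := by group

theorem exists_pow_mem : ∃ c : ℕ, ∀ g : G, g ^ 2 ^ c ∈ centralizer (V : Set G) := by
  haveI : Fact (Nat.Prime 2) := ⟨Nat.prime_two⟩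
  haveI := h.normal
  haveI := h.cyclic
  obtain ⟨b, hb⟩ := IsPGroup.iff_card.1 h.two
  have hcard : Nat.card (MulAut V) = 2 ^ (b - 1) := by
    rw [IsCyclic.card_mulAut, hb]
    rcases Nat.eq_zero_or_pos b with rfl | hb0
    · simp
    · rw [Nat.totient_prime_pow Nat.prime_two hb0]; simp
  refine ⟨b - 1, fun g => mem_centralizer_iff.2 fun v hv => ?_⟩
  have h1 : MulAut.conjNormal (H := V) (g ^ 2 ^ (b - 1)) = 1 := by
    rw [map_pow, ← hcard, pow_card_eq_one']
  have h2 := congrArg Subtype.val (DFunLike.congr_fun h1 ⟨v, hv⟩)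
  rw [MulAut.conjNormal_apply, MulAut.one_apply] at h2
  exact (mul_inv_eq_iff_eq_mul.1 h2).symm

theorem mem_centralizer_of_coprime {g : G} {m : ℕ} (hm : Odd m)
    (hg : g ^ m ∈ centralizer (V : Set G)) : g ∈ centralizer (V : Set G) := by
  obtain ⟨c, hc⟩ := h.exists_pow_mem
  have hcop : (2 ^ c).Coprime m := (Nat.coprime_two_left.2 hm).pow_left c
  have key : g = (g ^ (2 ^ c)) ^ ((2 ^ c).gcdA m) * (g ^ m) ^ ((2 ^ c).gcdB m) := by
    rw [← zpow_natCast g (2 ^ c), ← zpow_natCast g m, ← zpow_mul, ← zpow_mul, ← zpow_add,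
      ← Nat.gcd_eq_gcd_ab, hcop.gcd_eq_one, Nat.cast_one, zpow_one]
  rw [key]
  exact mul_mem (zpow_mem (hc g) _) (zpow_mem hg _)

theorem le_centralizer : V ≤ centralizer (V : Set G) := fun v hv => by
  haveI := h.cyclic
  refine mem_centralizer_iff.2 fun w hw => ?_
  exact congrArg Subtype.val (IsCyclic.isMulCommutative.is_comm.comm (⟨w, hw⟩ : V) ⟨v, hv⟩)

/-- A two-subgroup centralising `V` which is not cyclic has an involution outside `V`. -/
theorem exists_involution {P : Subgroup G} (hP : IsPGroup 2 P)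
    (hPC : P ≤ centralizer (V : Set G)) (hVP : V ≤ P) (hnc : ¬ IsCyclic P) :
    ∃ i ∈ P, i ^ 2 = 1 ∧ i ∉ V := by
  haveI : Fact (Nat.Prime 2) := ⟨Nat.prime_two⟩
  by_contra hno
  push Not at hno
  have hu : TwoGroupsQ.HasUniqueOrderP P 2 := by
    intro x y hx hy hy1
    have hxV := hno x x.2 (by simpa using congrArg Subtype.val hx)
    have hyV := hno y y.2 (by simpa using congrArg Subtype.val hy)
    have hxy : (x : G) ∈ zpowers (y : G) := mem_of_pow_card h.cyclic (zpowers_le.2 hyV) hxV (by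
      rw [Nat.card_zpowers, orderOf_eq_prime (p := 2) (by simpa using congrArg Subtype.val hy)
        (by simpa using hy1)]
      simpa using congrArg Subtype.val hx)
    obtain ⟨k, hk⟩ := mem_zpowers_iff.1 hxy
    exact mem_zpowers_iff.2 ⟨k, Subtype.ext (by simpa using hk)⟩
  rcases TwoGroupsQ.isCyclic_or_quaternion hP hu with hc | ⟨-, m, hm, ⟨e⟩⟩
  · exact hnc hc
  obtain ⟨v, hv, hv2⟩ := h.four
  have hcen : ∀ y, e ⟨v, hVP hv⟩ * y = y * e ⟨v, hVP hv⟩ := fun y => by
    obtain ⟨x, rfl⟩ := e.surjective y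
    rw [← map_mul, ← map_mul]
    exact congrArg e (Subtype.ext ((mem_centralizer_iff.1 (hPC x.2)) v hv))
  have hne : ¬ (e ⟨v, hVP hv⟩) ^ 2 = 1 := fun he => hv2 (by
    rw [← map_pow, MulEquiv.map_eq_one_iff] at he
    simpa using congrArg Subtype.val he)
  rcases hx : e ⟨v, hVP hv⟩ with i | i
  · rw [hx] at hcen hne
    have := hcen (QuaternionGroup.xa 0)
    simp only [QuaternionGroup.a_mul_xa, QuaternionGroup.xa_mul_a, QuaternionGroup.xa.injEq,
      zero_sub, zero_add] at this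
    refine hne ?_
    rw [pow_two, QuaternionGroup.a_mul_a, QuaternionGroup.one_def]
    congr 1
    nth_rewrite 1 [← this]
    exact neg_add_cancel i
  · rw [hx] at hcen
    have := hcen (QuaternionGroup.a 1)
    simp only [QuaternionGroup.a_mul_xa, QuaternionGroup.xa_mul_a, QuaternionGroup.xa.injEq,
      sub_eq_add_neg, add_right_inj] at this
    have h2 : ((2 : ℕ) : ZMod (2 * 2 ^ m)) = 0 := by
      rw [show ((2 : ℕ) : ZMod (2 * 2 ^ m)) = 1 + 1 by norm_num]
      exact add_eq_zero_iff_eq_neg.2 this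
    rw [ZMod.natCast_eq_zero_iff] at h2
    have h4 := Nat.le_of_dvd two_pos h2
    have : 2 ≤ 2 ^ m := Nat.le_self_pow (by omega) 2
    omega

theorem not_mem_of_conj {i g : G} (hiV : i ∉ V) : g * i * g⁻¹ ∉ V := fun hm =>
  hiV (by simpa [mul_assoc] using h.normal.conj_mem _ hm g⁻¹)

omit h in
theorem smul_mem {S : Sylow 2 G} {x g : G} (hx : x ∈ (S : Subgroup G)) :
    g * x * g⁻¹ ∈ ((g • S : Sylow 2 G) : Subgroup G) := by
  rw [Sylow.coe_subgroup_smul, mem_pointwise_smul_iff_inv_smul_mem, ← map_inv, MulAut.smul_def,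
    MulAut.conj_apply]
  simpa [mul_assoc] using hx

omit h in
theorem conj_sq {g i : G} (hi : i ^ 2 = 1) : (g * i * g⁻¹) ^ 2 = 1 := by
  rw [conj_pow, hi, mul_one, mul_inv_cancel]

theorem centralizer_normal : (centralizer (V : Set G)).Normal := by
  refine ⟨fun x hx g => mem_centralizer_iff.2 fun v hv => ?_⟩
  have := mem_centralizer_iff.1 hx _ (h.normal.conj_mem v hv g⁻¹)
  rw [inv_inv] at this
  calc v * (g * x * g⁻¹) = g * (g⁻¹ * v * g * x) * g⁻¹ := by group
    _ = g * (x * (g⁻¹ * v * g)) * g⁻¹ := by rw [this]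
    _ = g * x * g⁻¹ * v := by group

section Main

variable (hns : ¬ Group.IsSolvable G)
include hns

/-- Every Sylow 2-subgroup contains an involution of `C(V)` outside `V`. -/
theorem exists_involution_mem (S : Sylow 2 G) :
    ∃ i ∈ (S : Subgroup G), i ∈ centralizer (V : Set G) ∧ i ^ 2 = 1 ∧ i ∉ V := by
  haveI : Fact (Nat.Prime 2) := ⟨Nat.prime_two⟩
  haveI := h.centralizer_normal
  obtain ⟨P⟩ : Nonempty (Sylow 2 ↥(centralizer (V : Set G))) := inferInstance
  set P' := (P : Subgroup ↥(centralizer (V : Set G))).map (centralizer (V : Set G)).subtype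
  have hVP : V ≤ P' := by
    intro v hv
    refine ⟨⟨v, h.le_centralizer hv⟩, ?_, rfl⟩
    haveI : (V.subgroupOf (centralizer (V : Set G))).Normal :=
      Subgroup.normal_subgroupOf_of_le_normalizer (by
        rw [normalizer_eq_top_iff.2 h.normal]; exact le_top)
    exact IsPGroup.le_sylow_of_normal
      (h.two.of_equiv (subgroupOfEquivOfLe h.le_centralizer).symm) P hv
  have hnc : ¬ IsCyclic P' := by
    intro hc
    haveI : IsCyclic (P : Subgroup ↥(centralizer (V : Set G))) :=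
      (MulEquiv.isCyclic (equivMapOfInjective _ _ (centralizer (V : Set G)).subtype_injective)).2 hc
    obtain ⟨v, hv, hv2⟩ := h.four
    have h2 : 2 ∣ Nat.card ↥(centralizer (V : Set G)) := by
      refine dvd_trans ?_ (card_dvd_of_le h.le_centralizer)
      obtain ⟨b, hb⟩ := IsPGroup.iff_card.1 h.two
      rw [hb]
      refine dvd_pow_self 2 ?_
      rintro rfl
      have := eq_bot_of_card_eq V (by simpa using hb)
      rw [this, mem_bot] at hv
      exact hv2 (by rw [hv, one_pow])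
    have hCsol : Group.IsSolvable ↥(centralizer (V : Set G)) :=
      FT.isSolvable_of_hasNormalTwoComplement oddSolvable ⟨P, _, inferInstance,
        MonoidHom.ker_transferSylow_isComplement' P
          (IsCyclic.normalizer_le_centralizer ((Nat.minFac_eq_two_iff _).2 h2) inferInstance)⟩
    refine hns (SolvCrit.isSolvable_of_normal_of_quotient _ hCsol ?_)
    refine Group.isSolvable_of_comm fun a b => ?_
    obtain ⟨a, rfl⟩ := QuotientGroup.mk_surjective a
    obtain ⟨b, rfl⟩ := QuotientGroup.mk_surjective b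
    rw [← QuotientGroup.mk_mul, ← QuotientGroup.mk_mul, QuotientGroup.eq]
    have := h.commutator_mem b⁻¹ a⁻¹
    simpa [mul_assoc] using this
  obtain ⟨i, hi, hi2, hiV⟩ := h.exists_involution (P.2.map _) (map_subtype_le _) hVP hnc
  obtain ⟨T, hT⟩ := (P.2.map (centralizer (V : Set G)).subtype).exists_le_sylow
  obtain ⟨g, rfl⟩ := MulAction.exists_smul_eq G T S
  exact ⟨g * i * g⁻¹, smul_mem (hT hi),
    h.centralizer_normal.conj_mem i (map_subtype_le _ hi) g, conj_sq hi2, h.not_mem_of_conj hiV⟩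

theorem conj_involution [V.Normal] {i j : G} {S T : Sylow 2 G} (hi : i ∈ (S : Subgroup G))
    (hi2 : i ^ 2 = 1) (hiV : i ∉ V) (hj : j ∈ (T : Subgroup G))
    (hj2 : j ^ 2 = 1) (hjC : j ∈ centralizer (V : Set G)) (hjV : j ∉ V) :
    ∃ g : G, QuotientGroup.mk' V (g * i * g⁻¹) = QuotientGroup.mk' V j := by
  have key : ∀ {x y : G} {A B : Sylow 2 G}, A ≠ B → x ∈ (A : Subgroup G) → x ^ 2 = 1 → x ∉ V →
      y ∈ (B : Subgroup G) → y ^ 2 = 1 → y ∈ centralizer (V : Set G) → y ∉ V →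
      ∃ g : G, QuotientGroup.mk' V (g * x * g⁻¹) = QuotientGroup.mk' V y := by
    intro x y A B hne hx hx2 hxV hy hy2 hyC hyV
    obtain ⟨g, hg⟩ := h.conj_mod hne hx hy hy2 hyC hyV hxV (hx2 ▸ one_mem V) (fun _ => hx2)
    exact ⟨g, div_eq_one.1 (by
      rw [← map_div, div_eq_mul_inv]; exact (QuotientGroup.eq_one_iff _).2 hg)⟩
  by_cases hne : S = T
  · subst hne
    obtain ⟨R, hR⟩ := exists_sylow_ne hns S
    obtain ⟨l, hl, hlC, hl2, hlV⟩ := h.exists_involution_mem hns R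
    obtain ⟨g₁, hg₁⟩ := key hR.symm hi hi2 hiV hl hl2 hlC hlV
    obtain ⟨g₂, hg₂⟩ := key hR hl hl2 hlV hj hj2 hjC hjV
    refine ⟨g₂ * g₁, ?_⟩
    rw [show g₂ * g₁ * i * (g₂ * g₁)⁻¹ = g₂ * (g₁ * i * g₁⁻¹) * g₂⁻¹ by group, map_mul, map_mul,
      hg₁, ← map_mul, ← map_mul, hg₂]
  · exact key hne hi hi2 hiV hj hj2 hjC hjV

/-- An element outside `C(V)` has its square outside `V`. -/
theorem sq_notMem {s : G} (hs : s ∉ centralizer (V : Set G)) : s ^ 2 ∉ V := by
  intro hs2
  obtain ⟨S, hS⟩ := h.mem_of_two hs2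
  obtain ⟨R, hR⟩ := exists_sylow_ne hns S
  obtain ⟨j, hj, hjC, hj2, hjV⟩ := h.exists_involution_mem hns R
  obtain ⟨g, hg⟩ := h.conj_mod hR.symm hS hj hj2 hjC hjV (fun e => hs (h.le_centralizer e)) hs2
    (fun e => absurd e hs)
  have h1 := mul_mem (h.le_centralizer hg) hjC
  rw [inv_mul_cancel_right] at h1
  have := h.centralizer_normal.conj_mem _ h1 g⁻¹
  exact hs (by simpa [mul_assoc] using this)

theorem exists_fixed_of_sq [V.Normal] {S : Sylow 2 G} {s : G} (hsS : s ∈ (S : Subgroup G))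
    (hs : s ∉ centralizer (V : Set G)) (hs2 : s ^ 2 ∈ centralizer (V : Set G)) :
    ∃ i ∈ (S : Subgroup G), i ∈ centralizer (V : Set G) ∧ i ^ 2 = 1 ∧ i ∉ V ∧
      ∀ m : G, Commute m s → QuotientGroup.mk' V (m * i * m⁻¹) = QuotientGroup.mk' V i := by
  classical
  haveI : Fact (Nat.Prime 2) := ⟨Nat.prime_two⟩
  have hex : ∃ l, s ^ 2 ^ l ∈ V := by
    obtain ⟨a, ha⟩ := S.2 ⟨s, hsS⟩
    exact ⟨a, by rw [show s ^ 2 ^ a = 1 from congrArg Subtype.val ha]; exact one_mem V⟩
  obtain ⟨l, hl⟩ : ∃ l, Nat.find hex = l + 2 := by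
    refine ⟨Nat.find hex - 2, ?_⟩
    have h0 : Nat.find hex ≠ 0 := fun e => hs (h.le_centralizer (by
      simpa [e] using Nat.find_spec hex))
    have h1 : Nat.find hex ≠ 1 := fun e => h.sq_notMem hns hs (by
      simpa [e] using Nat.find_spec hex)
    omega
  set k := s ^ 2 ^ (l + 1) with hk
  have hkV : k ∉ V := Nat.find_min hex (by omega)
  have hkC : k ∈ centralizer (V : Set G) := by
    rw [hk, pow_succ', pow_mul]
    exact pow_mem hs2 _
  have hk2 : k ^ 2 ∈ V := by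
    rw [hk, ← pow_mul, ← pow_succ]
    have := Nat.find_spec hex
    rwa [hl] at this
  haveI := h.cyclic
  obtain ⟨⟨v, hv⟩, hgen⟩ := IsCyclic.exists_generator (α := V)
  have hgen' : zpowers v = V := le_antisymm (zpowers_le.2 hv) fun w hw => by
    obtain ⟨n, hn⟩ := hgen ⟨w, hw⟩
    exact mem_zpowers_iff.2 ⟨n, congrArg Subtype.val hn⟩
  obtain ⟨e, he⟩ : ∃ e : ℕ, v ^ e = k ^ 2 :=
    (mem_powers_iff_mem_zpowers (x := v) (y := k ^ 2)).2 (hgen'.symm ▸ hk2)
  obtain ⟨f, hf⟩ : Even e := by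
    by_contra hodd
    rw [Nat.not_even_iff_odd] at hodd
    obtain ⟨b, hb⟩ := IsPGroup.iff_card.1 h.two
    rw [← hgen', Nat.card_zpowers] at hb
    have hcop : (orderOf v).Coprime e := hb ▸ (Nat.coprime_two_left.2 hodd).pow_left b
    have hz : zpowers (v ^ e) = V := by
      refine Subgroup.eq_of_le_of_card_ge (zpowers_le.2 (pow_mem hv e)) ?_
      rw [← hgen', Nat.card_zpowers, Nat.card_zpowers, hcop.orderOf_pow]
    refine hs (mem_centralizer_iff.2 fun w hw => ?_)
    rw [← hz, he, SetLike.mem_coe, mem_zpowers_iff] at hw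
    obtain ⟨n, rfl⟩ := hw
    exact (((Commute.self_pow s _).pow_right 2).zpow_right n).eq.symm
  refine ⟨k * (v ^ f)⁻¹, mul_mem (pow_mem hsS _) (inv_mem (pow_mem (h.le_sylow S hv) f)),
    mul_mem hkC (inv_mem (pow_mem (h.le_centralizer hv) f)), ?_, ?_, fun m hm => ?_⟩
  · have hkv : Commute k (v ^ f) := (mem_centralizer_iff.1 hkC _ (pow_mem hv f)).symm
    have hc : Commute k ((v ^ f)⁻¹) := hkv.inv_right
    rw [hc.mul_pow, ← he, inv_pow, ← pow_mul, hf, mul_two, mul_inv_cancel]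
  · exact fun hm => hkV (by simpa using mul_mem hm (pow_mem hv f))
  · have h1 : QuotientGroup.mk' V ((v ^ f)⁻¹) = 1 :=
      (QuotientGroup.eq_one_iff _).2 (inv_mem (pow_mem hv f))
    simp only [map_mul, h1, mul_one, map_inv]
    rw [← map_inv, ← map_mul, ← map_mul,
      show m * k * m⁻¹ = k from by rw [(hm.pow_right _).eq, mul_inv_cancel_right]]

theorem exists_outside {g₀ : G} (hg₀ : g₀ ∉ centralizer (V : Set G)) (S : Sylow 2 G) :
    ∃ s ∈ (S : Subgroup G), s ∉ centralizer (V : Set G) ∧ s ^ 2 ∈ centralizer (V : Set G) := by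
  classical
  haveI : Fact (Nat.Prime 2) := ⟨Nat.prime_two⟩
  obtain ⟨t, htS, ht⟩ : ∃ t ∈ (S : Subgroup G), t ∉ centralizer (V : Set G) := by
    by_contra hno
    push Not at hno
    refine hg₀ (h.mem_centralizer_of_coprime
      (m := orderOf g₀ / 2 ^ (orderOf g₀).factorization 2) ?_ ?_)
    · rw [← Nat.not_even_iff_odd, even_iff_two_dvd]
      exact Nat.not_dvd_ordCompl Nat.prime_two (orderOf_pos g₀).ne'
    · set x := g₀ ^ (orderOf g₀ / 2 ^ (orderOf g₀).factorization 2)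
      have hp : IsPGroup 2 (zpowers x) := by
        have : x ^ 2 ^ (orderOf g₀).factorization 2 = 1 := by
          rw [← pow_mul, Nat.div_mul_cancel (Nat.ordProj_dvd _ _), pow_orderOf_eq_one]
        obtain ⟨a, -, ha⟩ := (Nat.dvd_prime_pow Nat.prime_two).1 (orderOf_dvd_of_pow_eq_one this)
        exact IsPGroup.of_card (n := a) (by rw [Nat.card_zpowers, ha])
      obtain ⟨T, hT⟩ := hp.exists_le_sylow
      obtain ⟨g, rfl⟩ := MulAction.exists_smul_eq G S T
      have hx := hT (mem_zpowers x)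
      rw [Sylow.coe_subgroup_smul, mem_pointwise_smul_iff_inv_smul_mem, ← map_inv, MulAut.smul_def,
        MulAut.conj_apply] at hx
      have := h.centralizer_normal.conj_mem _ (hno _ hx) g
      simpa [mul_assoc] using this
  have hex : ∃ l, t ^ 2 ^ l ∈ centralizer (V : Set G) := by
    obtain ⟨a, ha⟩ := S.2 ⟨t, htS⟩
    exact ⟨a, by rw [show t ^ 2 ^ a = 1 from congrArg Subtype.val ha]; exact one_mem _⟩
  obtain ⟨l, hl⟩ : ∃ l, Nat.find hex = l + 1 := Nat.exists_eq_succ_of_ne_zero fun e =>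
    ht (by simpa [e] using Nat.find_spec hex)
  refine ⟨t ^ 2 ^ l, pow_mem htS _, Nat.find_min hex (by omega), ?_⟩
  rw [← pow_mul, ← pow_succ, ← hl]
  exact Nat.find_spec hex

/-- A pair `{i, iz}` fixed by the whole Sylow subgroup. -/
theorem exists_fixed_sylow [V.Normal] (S : Sylow 2 G) :
    ∃ i ∈ (S : Subgroup G), i ∈ centralizer (V : Set G) ∧ i ^ 2 = 1 ∧ i ∉ V ∧
      ∀ s ∈ (S : Subgroup G), QuotientGroup.mk' V (s * i * s⁻¹) = QuotientGroup.mk' V i := by
  classical
  haveI : Fact (Nat.Prime 2) := ⟨Nat.prime_two⟩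
  have hmem : ∀ {W : Subgroup G}, IsCyclic W → V ≤ W → ∀ x ∈ W, x ^ 2 = 1 → x ∈ V := by
    intro W hW hVW x hx hx2
    refine mem_of_pow_card hW hVW hx ?_
    obtain ⟨b, hb⟩ := IsPGroup.iff_card.1 h.two
    obtain ⟨v, hv, hv2⟩ := h.four
    obtain ⟨b', rfl⟩ : ∃ b', b = b' + 1 := Nat.exists_eq_succ_of_ne_zero fun e => by
      rw [e, pow_zero] at hb
      rw [eq_bot_of_card_eq V hb, mem_bot] at hv
      exact hv2 (by rw [hv, one_pow])
    rw [hb, pow_succ', pow_mul, hx2, one_pow]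
  obtain ⟨W, ⟨hVW, hWS, hWC, hWc, hWn⟩, hWmax⟩ := Set.exists_max_image
    {W : Subgroup G | V ≤ W ∧ W ≤ (S : Subgroup G) ∧ W ≤ centralizer (V : Set G) ∧ IsCyclic W ∧
      ∀ s ∈ (S : Subgroup G), ∀ w ∈ W, s * w * s⁻¹ ∈ W}
    (fun W => Nat.card W) (Set.toFinite _)
    ⟨V, le_rfl, h.le_sylow S, h.le_centralizer, h.cyclic, fun s _ w hw => h.normal.conj_mem w hw s⟩
  haveI : (W.subgroupOf (S : Subgroup G)).Normal :=
    ⟨fun w hw s => hWn s s.2 w hw⟩
  set π := QuotientGroup.mk' (W.subgroupOf (S : Subgroup G))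
  set Pbar := ((centralizer (V : Set G)).subgroupOf (S : Subgroup G)).map π
  haveI : ((centralizer (V : Set G)).subgroupOf (S : Subgroup G)).Normal :=
    h.centralizer_normal.subgroupOf _
  haveI : Pbar.Normal := Subgroup.Normal.map inferInstance π (QuotientGroup.mk'_surjective _)
  have hπW : ∀ x : ↥(S : Subgroup G), π x = 1 → (x : G) ∈ W :=
    fun x hx => (QuotientGroup.eq_one_iff x).1 hx
  have hPbar : Pbar ≠ ⊥ := by
    obtain ⟨i, hiS, hiC, hi2, hiV⟩ := h.exists_involution_mem hns S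
    intro e
    have : π ⟨i, hiS⟩ ∈ Pbar := ⟨⟨i, hiS⟩, hiC, rfl⟩
    rw [e, mem_bot] at this
    have h' : (⟨i, hiS⟩ : ↥(S : Subgroup G)) ∈ W.subgroupOf (S : Subgroup G) :=
      (QuotientGroup.eq_one_iff _).1 this
    exact hiV (hmem hWc hVW i h' hi2)
  have hQ : IsPGroup 2 (↥(S : Subgroup G) ⧸ W.subgroupOf (S : Subgroup G)) := S.2.to_quotient _
  haveI := hQ.isNilpotent
  have hZ := Solvable.inf_center_ne_bot hPbar
  obtain ⟨q, hq⟩ : ∃ q : ↥(Pbar ⊓ Subgroup.center _), orderOf q = 2 := by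
    refine exists_prime_orderOf_dvd_card' 2 ?_
    obtain ⟨a, ha⟩ := IsPGroup.iff_card.1 (hQ.to_subgroup (Pbar ⊓ Subgroup.center _))
    rw [ha]
    exact dvd_pow_self 2 fun e => hZ (eq_bot_of_card_eq _ (by rw [ha, e, pow_zero]))
  obtain ⟨⟨k, hkS⟩, hkC, hkq⟩ := q.2.1
  have hqc := q.2.2
  have hq2 : (q : _ ⧸ W.subgroupOf (S : Subgroup G)) ^ 2 = 1 := by
    have := pow_orderOf_eq_one q
    rw [hq] at this
    exact congrArg Subtype.val this
  have hkW : k ∉ W := fun hk => by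
    have h1 : (q : _ ⧸ W.subgroupOf (S : Subgroup G)) = 1 :=
      hkq.symm.trans ((QuotientGroup.eq_one_iff _).2 hk)
    have : q = 1 := Subtype.ext h1
    rw [this, orderOf_one] at hq
    omega
  set X := W ⊔ zpowers k with hX
  have hXle : ∀ s ∈ (S : Subgroup G), s * k * s⁻¹ ∈ X := by
    intro s hs
    have h1 : π (⟨s, hs⟩ * ⟨k, hkS⟩ * ⟨s, hs⟩⁻¹ * (⟨k, hkS⟩)⁻¹) = 1 := by
      rw [map_mul, map_mul, map_mul, hkq, map_inv, map_inv, hkq,
        Subgroup.mem_center_iff.1 hqc, mul_inv_cancel_right, mul_inv_cancel]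
    have h2 : s * k * s⁻¹ * k⁻¹ ∈ X := le_sup_left (a := W) (hπW _ h1)
    have h3 := mul_mem h2 (le_sup_right (a := W) (mem_zpowers k))
    rwa [inv_mul_cancel_right] at h3
  have hXn : ∀ s ∈ (S : Subgroup G), ∀ x ∈ X, s * x * s⁻¹ ∈ X := by
    intro s hs
    suffices X ≤ X.comap (MulAut.conj s).toMonoidHom from fun x hx => by
      simpa using this hx
    refine sup_le (fun w hw => ?_) (zpowers_le.2 ?_)
    · show MulAut.conj s w ∈ X
      exact le_sup_left (a := W) (hWn s hs w hw)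
    · show MulAut.conj s k ∈ X
      exact hXle s hs
  have hXS : X ≤ (S : Subgroup G) := sup_le hWS (zpowers_le.2 hkS)
  have hXC : X ≤ centralizer (V : Set G) := sup_le hWC (zpowers_le.2 hkC)
  have hXnc : ¬ IsCyclic X := fun hc => by
    have h1 := hWmax X ⟨hVW.trans le_sup_left, hXS, hXC, hc, hXn⟩
    have h2 := Subgroup.eq_of_le_of_card_ge (le_sup_left : W ≤ X) h1
    exact hkW (h2 ▸ le_sup_right (a := W) (mem_zpowers k))
  obtain ⟨i, hiX, hi2, hiV⟩ :=
    h.exists_involution (S.2.to_le hXS) hXC (hVW.trans le_sup_left) hXnc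
  refine ⟨i, hXS hiX, hXC hiX, hi2, hiV, fun s hs => ?_⟩
  have hic : π ⟨i, hXS hiX⟩ ∈ Subgroup.center _ := by
    have : X.subgroupOf (S : Subgroup G) ≤ (Subgroup.center _).comap π := by
      rw [hX, Subgroup.subgroupOf_sup hWS (zpowers_le.2 hkS)]
      refine sup_le (fun w hw => ?_) ?_
      · rw [mem_comap, show π w = 1 from (QuotientGroup.eq_one_iff _).2 hw]
        exact one_mem _
      · intro w hw
        obtain ⟨n, hn⟩ := mem_zpowers_iff.1 hw
        rw [mem_comap, show w = ⟨k, hkS⟩ ^ n from Subtype.ext (by simpa using hn.symm), map_zpow]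
        exact zpow_mem (hkq.symm ▸ hqc) n
    exact this hiX
  have h1 : π (⟨s, hs⟩ * ⟨i, hXS hiX⟩ * ⟨s, hs⟩⁻¹ * (⟨i, hXS hiX⟩)⁻¹) = 1 := by
    rw [map_mul, map_mul, map_mul, map_inv, map_inv,
      Subgroup.mem_center_iff.1 hic, mul_inv_cancel_right, mul_inv_cancel]
  set u := s * i * s⁻¹ * i⁻¹ with hu
  have huW : u ∈ W := hπW _ h1
  have huV : u ∈ V := by
    by_contra hnot
    have hiu : i * u * i⁻¹ = u⁻¹ := by
      have e2 : (u * i) * (u * i) = 1 := by
        rw [show u * i = s * i * s⁻¹ by rw [hu]; group, ← pow_two, conj_sq hi2]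
      have hii : i⁻¹ = i := inv_eq_of_mul_eq_one_right (by rw [← pow_two]; exact hi2)
      rw [hii]
      refine eq_inv_of_mul_eq_one_right ?_
      simpa [mul_assoc] using e2
    obtain ⟨v, hv, hv2⟩ := h.four
    have hvu : v ∈ zpowers u := by
      refine mem_of_pow_card hWc (zpowers_le.2 huW) (hVW hv) (orderOf_dvd_iff_pow_eq_one.1 ?_)
      rw [Nat.card_zpowers]
      obtain ⟨a, ha⟩ := IsPGroup.iff_orderOf.1 S.2 ⟨u, hWS huW⟩
      rw [orderOf_mk] at ha
      obtain ⟨b, hb⟩ := IsPGroup.iff_card.1 h.two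
      have hba : b ≤ a := by
        by_contra hle
        push Not at hle
        refine hnot (mem_of_pow_card hWc hVW huW (orderOf_dvd_iff_pow_eq_one.1 ?_))
        rw [ha, hb]
        exact Nat.pow_dvd_pow 2 hle.le
      rw [ha]
      refine dvd_trans ?_ (Nat.pow_dvd_pow 2 hba)
      rw [← hb, ← orderOf_mk v hv]
      exact orderOf_dvd_natCard (⟨v, hv⟩ : V)
    obtain ⟨n, rfl⟩ := mem_zpowers_iff.1 hvu
    have h4 : i * u ^ n * i⁻¹ = u ^ n := by
      rw [← mem_centralizer_iff.1 (hXC hiX) _ hv, mul_inv_cancel_right]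
    rw [← conj_zpow, hiu, inv_zpow] at h4
    refine hv2 ?_
    rw [pow_two]
    nth_rewrite 1 [← h4]
    exact inv_mul_cancel _
  refine div_eq_one.1 ?_
  rw [← map_div, div_eq_mul_inv]
  exact (QuotientGroup.eq_one_iff _).2 huV

theorem conj_smul_eq [V.Normal] {S : Sylow 2 G} {i j g : G} (hi : i ∈ (S : Subgroup G))
    (hi2 : i ^ 2 = 1) (hiV : i ∉ V) (hj : j ∈ (S : Subgroup G))
    (hg : QuotientGroup.mk' V (g * i * g⁻¹) = QuotientGroup.mk' V j) :
    g ∈ normalizer ((S : Subgroup G) : Set G) := by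
  refine Sylow.smul_eq_iff_mem_normalizer.1 ?_
  refine h.eq_of_involution (conj_sq hi2) (h.not_mem_of_conj hiV) (smul_mem hi) ?_
  have hv : g * i * g⁻¹ * j⁻¹ ∈ V := (QuotientGroup.eq_one_iff _).1 (by
    show QuotientGroup.mk' V (g * i * g⁻¹ * j⁻¹) = 1
    rw [map_mul, hg, ← map_mul, mul_inv_cancel, map_one])
  have := mul_mem (h.le_sylow S hv) hj
  rwa [inv_mul_cancel_right] at this

/-- All involutions of `C(V) ∩ S` outside `V` are congruent modulo `V`. -/
theorem unique_mod [V.Normal] {g₀ : G} (hg₀ : g₀ ∉ centralizer (V : Set G)) (S : Sylow 2 G)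
    {i j : G} (hiS : i ∈ (S : Subgroup G)) (hiC : i ∈ centralizer (V : Set G)) (hi2 : i ^ 2 = 1)
    (hiV : i ∉ V) (hjS : j ∈ (S : Subgroup G)) (hjC : j ∈ centralizer (V : Set G))
    (hj2 : j ^ 2 = 1) (hjV : j ∉ V) :
    QuotientGroup.mk' V i = QuotientGroup.mk' V j := by
  haveI : Fact (Nat.Prime 2) := ⟨Nat.prime_two⟩
  set π := QuotientGroup.mk' V
  obtain ⟨i₀, h0S, h0C, h02, h0V, h0fix⟩ := h.exists_fixed_sylow hns S
  set M := normalizer ((S : Subgroup G) : Set G) with hM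
  have hmove : ∀ x : G, x ∈ (S : Subgroup G) → x ∈ centralizer (V : Set G) → x ^ 2 = 1 → x ∉ V →
      ∃ g ∈ M, π (g * i₀ * g⁻¹) = π x := by
    intro x hxS hxC hx2 hxV
    obtain ⟨g, hg⟩ := h.conj_involution hns h0S h02 h0V hxS hx2 hxC hxV
    exact ⟨g, h.conj_smul_eq hns h0S h02 h0V hxS hg, hg⟩
  let Kst : Subgroup ↥M :=
    { carrier := {m | π m * π i₀ * (π m)⁻¹ = π i₀}
      one_mem' := by simp
      mul_mem' := fun {a b} (ha : _ = _) (hb : _ = _) => by
        show π (a * b : G) * π i₀ * (π (a * b : G))⁻¹ = π i₀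
        rw [map_mul, mul_inv_rev, show π a * π b * π i₀ * ((π b)⁻¹ * (π a)⁻¹) =
          π a * (π b * π i₀ * (π b)⁻¹) * (π a)⁻¹ by group, hb, ha]
      inv_mem' := fun {a} (ha : _ = _) => by
        show π (a⁻¹ : G) * π i₀ * (π (a⁻¹ : G))⁻¹ = π i₀
        rw [map_inv, inv_inv]
        nth_rewrite 1 [← ha]
        group }
  have htop : Kst = ⊤ := by
    by_contra hne
    obtain ⟨⟨m, hm⟩, hnot⟩ := Derangement.exists_not_conj_mem Kst hne
    obtain ⟨s₀, hs₀S, hs₀, hs₀2⟩ := h.exists_outside hns hg₀ S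
    set n := orderOf m with hn
    set a := n.factorization 2 with ha
    set c := n / 2 ^ a with hc
    have hcop : (2 ^ a).Coprime c :=
      (Nat.coprime_ordCompl Nat.prime_two (orderOf_pos m).ne').pow_left a
    set m₁ := m ^ ((c : ℤ) * (2 ^ a).gcdB c)
    set m₂ := m ^ (((2 ^ a : ℕ) : ℤ) * (2 ^ a).gcdA c) with hm₂
    have hm12 : m₁ * m₂ = m := by
      rw [← zpow_add, add_comm, ← Nat.gcd_eq_gcd_ab, hcop.gcd_eq_one, Nat.cast_one, zpow_one]
    have hn' : 2 ^ a * c = n := Nat.ordProj_mul_ordCompl_eq_self n 2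
    have hm₁S : m₁ ∈ (S : Subgroup G) := by
      have hp : IsPGroup 2 (zpowers m₁) := by
        have : m₁ ^ 2 ^ a = 1 := by
          rw [← zpow_natCast, ← zpow_mul, mul_right_comm, ← Nat.cast_mul, mul_comm c, hn',
            zpow_mul, zpow_natCast, hn, pow_orderOf_eq_one, one_zpow]
        obtain ⟨a', -, ha'⟩ := (Nat.dvd_prime_pow Nat.prime_two).1 (orderOf_dvd_of_pow_eq_one this)
        exact IsPGroup.of_card (n := a') (by rw [Nat.card_zpowers, ha'])
      obtain ⟨T, hT⟩ := hp.exists_le_sylow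
      exact ((T.2.inf_normalizer_sylow S).le ⟨hT (mem_zpowers m₁), zpow_mem hm _⟩).2
    have hm₂c : m₂ ^ c = 1 := by
      rw [hm₂, ← zpow_natCast, ← zpow_mul, mul_right_comm, ← Nat.cast_mul, hn', zpow_mul,
        zpow_natCast, hn, pow_orderOf_eq_one, one_zpow]
    have hm₂M : m₂ ∈ M := zpow_mem hm _
    have hA : zpowers m₂ ≤
        normalizer (((S : Subgroup G) ⊓ centralizer (V : Set G) : Subgroup G) : Set G) := by
      rw [zpowers_le, mem_normalizer_iff]
      intro x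
      refine ⟨fun hx => ⟨(mem_normalizer_iff.1 hm₂M x).1 hx.1,
        h.centralizer_normal.conj_mem x hx.2 _⟩, fun hx => ⟨(mem_normalizer_iff.1 hm₂M x).2 hx.1, ?_⟩⟩
      simpa [mul_assoc] using h.centralizer_normal.conj_mem _ hx.2 m₂⁻¹
    have hcard : (Nat.card (zpowers m₂)).Coprime
        (Nat.card ↥((S : Subgroup G) ⊓ centralizer (V : Set G) : Subgroup G)) := by
      obtain ⟨b, hb⟩ := IsPGroup.iff_card.1 (S.2.to_le (inf_le_left (b := centralizer (V : Set G))))
      rw [hb, Nat.card_zpowers]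
      exact (Nat.Coprime.coprime_dvd_left (orderOf_dvd_of_pow_eq_one hm₂c)
        (Nat.coprime_ordCompl Nat.prime_two (orderOf_pos m).ne').symm).pow_right b
    obtain ⟨s, hsA, hs⟩ := Coprime.exists_fixed_mem_coset hA hcard (Or.inl inferInstance) (k := s₀)
      (fun x hx => by
        obtain ⟨l, rfl⟩ := mem_zpowers_iff.1 hx
        have h1 : m₂ ^ l * s₀ * (m₂ ^ l)⁻¹ ∈ (S : Subgroup G) :=
          (mem_normalizer_iff.1 (zpow_mem hm₂M l) s₀).1 hs₀S
        refine mem_inf.2 ⟨(S : Subgroup G).mul_mem ((S : Subgroup G).inv_mem hs₀S) h1, ?_⟩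
        have := h.commutator_mem s₀⁻¹ (m₂ ^ l)
        simpa [mul_assoc] using this)
    have hsS : s ∈ (S : Subgroup G) := by simpa using mul_mem hs₀S hs.1
    have hsC : s ∉ centralizer (V : Set G) := fun e => hs₀ (by
      have := mul_mem e (inv_mem hs.2)
      simpa using this)
    have hs2 : s ^ 2 ∈ centralizer (V : Set G) := by
      have e : s ^ 2 = s₀ ^ 2 * ((s₀⁻¹ * (s₀⁻¹ * s) * s₀) * (s₀⁻¹ * s)) := by
        rw [pow_two, pow_two]; group
      rw [e]
      exact mul_mem hs₀2 (mul_mem (by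
        simpa using h.centralizer_normal.conj_mem _ hs.2 s₀⁻¹) hs.2)
    obtain ⟨x, hxS, hxC, hx2, hxV, hxfix⟩ := h.exists_fixed_of_sq hns hsS hsC hs2
    have hm₂x : π m₂ * π x * (π m₂)⁻¹ = π x := by
      have := hxfix m₂ (mem_centralizer_iff.1 hsA m₂ (mem_zpowers m₂))
      rwa [map_mul, map_mul, map_inv] at this
    obtain ⟨g, hgM, hg⟩ := hmove x hxS hxC hx2 hxV
    rw [map_mul, map_mul, map_inv] at hg
    refine hnot ⟨g⁻¹, inv_mem hgM⟩ ?_
    show π (g⁻¹ * m * g⁻¹⁻¹) * π i₀ * (π (g⁻¹ * m * g⁻¹⁻¹))⁻¹ = π i₀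
    have hS1 := h0fix (g⁻¹ * m₁ * g)
      (by simpa using (mem_normalizer_iff.1 (inv_mem hgM) m₁).1 hm₁S)
    simp only [map_mul, map_inv] at hS1
    rw [inv_inv, ← hm12]
    simp only [map_mul, map_inv, mul_inv_rev, inv_inv]
    calc (π g)⁻¹ * (π m₁ * π m₂) * π g * π i₀ * ((π g)⁻¹ * ((π m₂)⁻¹ * (π m₁)⁻¹ * π g))
        = (π g)⁻¹ * π m₁ * (π m₂ * (π g * π i₀ * (π g)⁻¹) * (π m₂)⁻¹) * ((π m₁)⁻¹ * π g) := by
          group
      _ = (π g)⁻¹ * π m₁ * π g * π i₀ * ((π g)⁻¹ * (π m₁)⁻¹ * π g) := by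
          rw [hg, hm₂x, ← hg]; group
      _ = π i₀ := by
          rw [mul_inv_rev, mul_inv_rev, inv_inv] at hS1
          rw [← mul_assoc ((π g)⁻¹)] at hS1
          exact hS1
  have hall : ∀ x : G, x ∈ (S : Subgroup G) → x ∈ centralizer (V : Set G) → x ^ 2 = 1 → x ∉ V →
      π x = π i₀ := by
    intro x hxS hxC hx2 hxV
    obtain ⟨g, hgM, hg⟩ := hmove x hxS hxC hx2 hxV
    have : (⟨g, hgM⟩ : ↥M) ∈ Kst := htop ▸ Subgroup.mem_top _
    rw [← hg, map_mul, map_mul, map_inv]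
    exact this
  rw [hall i hiS hiC hi2 hiV, hall j hjS hjC hj2 hjV]

end Main

/-- A cyclic normal 2-subgroup is central. -/
theorem le_center (hns : ¬ Group.IsSolvable G)
    (hO : ∀ N : Subgroup G, N.Normal → Odd (Nat.card N) → N = ⊥) : V ≤ Subgroup.center G := by
  haveI : Fact (Nat.Prime 2) := ⟨Nat.prime_two⟩
  haveI := h.normal
  haveI := h.centralizer_normal
  by_contra hne
  obtain ⟨g₀, hg₀⟩ : ∃ g₀, g₀ ∉ centralizer (V : Set G) := by
    by_contra hno
    push Not at hno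
    exact hne fun v hv => Subgroup.mem_center_iff.2 fun g =>
      (mem_centralizer_iff.1 (hno g) v hv).symm
  obtain ⟨S⟩ : Nonempty (Sylow 2 G) := inferInstance
  obtain ⟨i, hiS, hiC, hi2, hiV⟩ := h.exists_involution_mem hns S
  set π := QuotientGroup.mk' V
  have hπ : ∀ u, π u = 1 ↔ u ∈ V := fun u => QuotientGroup.eq_one_iff u
  have hiso : Cfsg.IsIsolatedInvolution (π i) := by
    refine ⟨orderOf_eq_prime (by rw [← map_pow, hi2, map_one]) (fun e => hiV ((hπ i).1 e)),
      fun q hq => ?_⟩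
    obtain ⟨g, rfl⟩ := QuotientGroup.mk'_surjective V q
    rw [← map_inv, ← map_mul, ← map_mul] at hq ⊢
    set j := g * i * g⁻¹
    have hjR : j ∈ ((g • S : Sylow 2 G) : Subgroup G) := smul_mem hiS
    have hv : i⁻¹ * j * i * j⁻¹ ∈ V := by
      rw [← hπ, map_mul, map_mul, map_mul, mul_assoc ((π i⁻¹)), ← hq.eq, ← mul_assoc, ← map_mul,
        inv_mul_cancel, map_one, one_mul, map_inv, mul_inv_cancel]
    have hiR : i ∈ ((g • S : Sylow 2 G) : Subgroup G) :=
      h.mem_of_conj hjR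
        (fun R hR => h.eq_of_involution (conj_sq hi2) (h.not_mem_of_conj hiV) hR hjR) hiS (by
          have := mul_mem (h.le_sylow _ hv) hjR
          rwa [inv_mul_cancel_right] at this)
    have hRS : g • S = S := h.eq_of_involution hi2 hiV hiR hiS
    rw [hRS] at hjR
    exact h.unique_mod hns hg₀ S hjR (h.centralizer_normal.conj_mem i hiC g) (conj_sq hi2)
      (h.not_mem_of_conj hiV) hiS hiC hi2 hiV
  have hO' : ∀ N : Subgroup (G ⧸ V), N.Normal → Odd (Nat.card N) → N = ⊥ := by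
    intro N hN hodd
    haveI := hN
    set M := N.comap π with hMdef
    have hVM : V ≤ M := fun v hv => by
      show π v ∈ N
      rw [(hπ v).2 hv]; exact one_mem N
    have hMC : M ≤ centralizer (V : Set G) := fun m hm =>
      h.mem_centralizer_of_coprime hodd (h.le_centralizer ((hπ _).1 (by
        rw [map_pow]
        exact congrArg Subtype.val (pow_card_eq_one' (x := (⟨π m, hm⟩ : N))))))
    haveI : (V.subgroupOf M).Normal := h.normal.subgroupOf M
    obtain ⟨b, hb⟩ := IsPGroup.iff_card.1 h.two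
    have hVcard : Nat.card (V.subgroupOf M) = 2 ^ b := by
      rw [Nat.card_congr (subgroupOfEquivOfLe hVM).toEquiv, hb]
    have hidx : (V.subgroupOf M).index = Nat.card N := by
      let f : ↥M →* ↥N := (π.comp M.subtype).codRestrict N fun x => x.2
      have hker : f.ker = V.subgroupOf M := by
        ext x
        rw [MonoidHom.mem_ker, ← Subtype.coe_inj, Subgroup.mem_subgroupOf]
        exact hπ x
      have hf : Function.Surjective f := fun y => by
        obtain ⟨x, hx⟩ := QuotientGroup.mk'_surjective V (y : G ⧸ V)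
        exact ⟨⟨x, by show π x ∈ N; rw [hx]; exact y.2⟩, Subtype.ext hx⟩
      rw [← hker, Subgroup.index_eq_card,
        Nat.card_congr (QuotientGroup.quotientKerEquivOfSurjective f hf).toEquiv]
    have hcop : (2 ^ b).Coprime (Nat.card N) := (Nat.coprime_two_left.2 hodd).pow_left b
    obtain ⟨H, hH⟩ := Subgroup.exists_right_complement'_of_coprime
      (N := V.subgroupOf M) (by rw [hVcard, hidx]; exact hcop)
    have hHcard : Nat.card H = Nat.card N := by rw [← hidx, hH.symm.index_eq_card]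
    have hiff : ∀ x : ↥M, x ∈ H ↔ (x : G) ^ Nat.card N = 1 := by
      intro x
      constructor
      · intro hx
        have := congrArg Subtype.val (congrArg Subtype.val (pow_card_eq_one' (x := (⟨x, hx⟩ : H))))
        rw [hHcard] at this
        simpa using this
      · intro hx
        obtain ⟨⟨⟨v, hv⟩, ⟨w, hw⟩⟩, rfl⟩ := hH.2 x
        have hcom : Commute v w := Subtype.ext (mem_centralizer_iff.1 (hMC w.2) v hv)
        have h1 : v ^ Nat.card N = 1 := by
          have h2 : w ^ Nat.card N = 1 := by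
            rw [← hHcard]; exact congrArg Subtype.val (pow_card_eq_one' (x := (⟨w, hw⟩ : H)))
          have h3 : (v * w) ^ Nat.card N = 1 := Subtype.ext (by simpa using hx)
          rwa [hcom.mul_pow, h2, mul_one] at h3
        have hv1 : v = 1 := by
          have h4 : v ^ (2 ^ b) = 1 := by
            rw [← hVcard]; exact congrArg Subtype.val (pow_card_eq_one' (x := (⟨v, hv⟩ : V.subgroupOf M)))
          have h5 : v ^ Nat.gcd (2 ^ b) (Nat.card N) = 1 := pow_gcd_eq_one.2 ⟨h4, h1⟩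
          rwa [hcop.gcd_eq_one, pow_one] at h5
        show v * w ∈ H
        rw [hv1, one_mul]; exact hw
    have hnorm : (H.map M.subtype).Normal := by
      refine ⟨?_⟩
      rintro _ ⟨x, hx, rfl⟩ g
      refine ⟨⟨g * x * g⁻¹, ?_⟩, (hiff _).2 ?_, rfl⟩
      · show π (g * x * g⁻¹) ∈ N
        rw [map_mul, map_mul, map_inv]
        exact hN.conj_mem _ x.2 _
      · show (g * x * g⁻¹) ^ Nat.card N = 1
        rw [conj_pow, (hiff x).1 hx, mul_one, mul_inv_cancel]
    have hbot := hO _ hnorm (by rwa [Subgroup.card_map_of_injective M.subtype_injective, hHcard])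
    have h1 : Nat.card N = 1 := by
      rw [← hHcard, ← Subgroup.card_map_of_injective M.subtype_injective, hbot, Subgroup.card_bot]
    exact Subgroup.eq_bot_of_card_eq N h1
  have hcen := ZStar.mem_center_of_isolated hiso hO'
  obtain ⟨T, hT⟩ := exists_sylow_ne hns S
  obtain ⟨g, rfl⟩ := MulAction.exists_smul_eq G S T
  refine hT (Sylow.smul_eq_iff_mem_normalizer.2 (h.conj_smul_eq hns hiS hi2 hiV hiS ?_))
  rw [map_mul, map_mul, map_inv, Subgroup.mem_center_iff.1 hcen, mul_inv_cancel_right]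

end Hyp

end CfsgLib.SylowCyclicInt
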