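import Mathlib
import Cfsg.Agent.TwoGroupsQ.UniqueInvolution

/-!
# A cyclic normal 2-subgroup when distinct Sylow 2-subgroups meet in cyclic groups

A 2-element which, together with `V`, generates a non-cyclic group lies in a unique Sylow
2-subgroup. This gives a conjugacy criterion for involutions modulo `V`.
-/

set_option autoImplicit false
set_option linter.unusedSectionVars false
set_option linter.style.haveILetI false

namespace CfsgLib.SylowCyclicInt

open Subgroup

universe u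

variable {G : Type u} [Group G] [Finite G]

/-- The elements killed by the order of a subgroup of a cyclic group lie in it. -/
theorem mem_of_pow_card {D H : Subgroup G} (hD : IsCyclic D) (hHD : H ≤ D) {x : G} (hx : x ∈ D)
    (hpow : x ^ Nat.card H = 1) : x ∈ H := by
  classical
  haveI := hD
  haveI : Fintype D := Fintype.ofFinite D
  have h1 : (Finset.univ.filter fun d : D => (d : G) ∈ H).card = Nat.card H := by
    rw [← Nat.card_congr (Subgroup.subgroupOfEquivOfLe hHD).toEquiv, Nat.card_eq_fintype_card,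
      Fintype.card_subtype]
    rfl
  have h2 : (Finset.univ.filter fun d : D => (d : G) ∈ H) ⊆
      Finset.univ.filter fun d : D => d ^ Nat.card H = 1 := by
    intro d hd
    rw [Finset.mem_filter] at hd ⊢
    have e : ((⟨d, hd.2⟩ : H) : G) ^ Nat.card H = 1 := by
      rw [← SubmonoidClass.coe_pow, pow_card_eq_one']; rfl
    exact ⟨Finset.mem_univ d, Subtype.ext (by simpa using e)⟩
  have h3 := Finset.eq_of_subset_of_card_le h2
    (h1.symm ▸ IsCyclic.card_pow_eq_one_le (α := D) Nat.card_pos)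
  have h4 : (⟨x, hx⟩ : D) ∈ Finset.univ.filter fun d : D => d ^ Nat.card H = 1 :=
    Finset.mem_filter.2 ⟨Finset.mem_univ _, Subtype.ext (by simpa using hpow)⟩
  rw [← h3, Finset.mem_filter] at h4
  exact h4.2

/-- The hypotheses: `V` is a cyclic normal 2-subgroup with an element of order at least four and
distinct Sylow 2-subgroups meet in cyclic groups. -/
structure Hyp (V : Subgroup G) : Prop where
  meet : ∀ S T : Sylow 2 G, S ≠ T → IsCyclic ↥((S : Subgroup G) ⊓ (T : Subgroup G))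
  normal : V.Normal
  cyclic : IsCyclic V
  two : IsPGroup 2 V
  four : ∃ v ∈ V, v ^ 2 ≠ 1

namespace Hyp

variable {V : Subgroup G} (h : Hyp V)
include h

theorem le_sylow (S : Sylow 2 G) : V ≤ (S : Subgroup G) := by
  haveI : Fact (Nat.Prime 2) := ⟨Nat.prime_two⟩
  obtain ⟨T, hT⟩ := h.two.exists_le_sylow
  obtain ⟨g, rfl⟩ := MulAction.exists_smul_eq G T S
  intro v hv
  rw [Sylow.coe_subgroup_smul, mem_pointwise_smul_iff_inv_smul_mem, ← map_inv, MulAut.smul_def,
    MulAut.conj_apply]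
  exact hT (h.normal.conj_mem v hv _)

theorem mem_of_two {K : G} (hK : K ^ 2 ∈ V) : ∃ S : Sylow 2 G, K ∈ (S : Subgroup G) := by
  haveI : Fact (Nat.Prime 2) := ⟨Nat.prime_two⟩
  have hp : IsPGroup 2 (zpowers K) := by
    obtain ⟨k, hk⟩ := h.two ⟨_, hK⟩
    have hk' : K ^ (2 * 2 ^ k) = 1 := by
      rw [pow_mul]; exact congrArg Subtype.val hk
    obtain ⟨a, -, ha⟩ := (Nat.dvd_prime_pow Nat.prime_two).1
      (show orderOf K ∣ 2 ^ (k + 1) by rw [pow_succ']; exact orderOf_dvd_of_pow_eq_one hk')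
    exact IsPGroup.of_card (n := a) (by rw [Nat.card_zpowers, ha])
  obtain ⟨S, hS⟩ := hp.exists_le_sylow
  exact ⟨S, hS (mem_zpowers K)⟩

/-- An element not centralising `V` lies in at most one Sylow 2-subgroup. -/
theorem eq_of_not_commute {x : G} (hx : x ∉ centralizer (V : Set G)) {S T : Sylow 2 G}
    (hS : x ∈ (S : Subgroup G)) (hT : x ∈ (T : Subgroup G)) : S = T := by
  by_contra hne
  haveI := h.meet S T hne
  refine hx (mem_centralizer_iff.2 fun v hv => ?_)
  have hc := IsCyclic.isMulCommutative.is_comm.comm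
    (⟨v, h.le_sylow S hv, h.le_sylow T hv⟩ : ↥((S : Subgroup G) ⊓ (T : Subgroup G))) ⟨x, hS, hT⟩
  exact congrArg Subtype.val hc

/-- An element outside `V` in two Sylow 2-subgroups has `V` inside the powers of its square. -/
theorem le_zpowers_sq {K : G} {S T : Sylow 2 G} (hne : S ≠ T) (hS : K ∈ (S : Subgroup G))
    (hT : K ∈ (T : Subgroup G)) (hK : K ∉ V) : V ≤ zpowers (K ^ 2) := by
  haveI : Fact (Nat.Prime 2) := ⟨Nat.prime_two⟩
  have hD := h.meet S T hne
  have hVD : V ≤ (S : Subgroup G) ⊓ (T : Subgroup G) := le_inf (h.le_sylow S) (h.le_sylow T)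
  have hKD : K ∈ (S : Subgroup G) ⊓ (T : Subgroup G) := ⟨hS, hT⟩
  obtain ⟨a, ha⟩ := IsPGroup.iff_orderOf.1 S.2 ⟨K, hS⟩
  rw [orderOf_mk] at ha
  obtain ⟨b, hb⟩ := IsPGroup.iff_card.1 h.two
  have hba : b < a := by
    by_contra hle
    push Not at hle
    refine hK (mem_of_pow_card hD hVD hKD (orderOf_dvd_iff_pow_eq_one.1 ?_))
    rw [ha, hb]
    exact Nat.pow_dvd_pow 2 hle
  have hc : Nat.card (zpowers (K ^ 2)) = 2 ^ (a - 1) := by
    rw [Nat.card_zpowers, orderOf_pow, ha]
    obtain ⟨a', rfl⟩ : ∃ a', a = a' + 1 := ⟨a - 1, by omega⟩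
    rw [Nat.gcd_eq_right (dvd_pow_self 2 (by omega)), pow_succ, Nat.mul_div_cancel _ two_pos,
      Nat.add_sub_cancel]
  intro v hv
  refine mem_of_pow_card hD (zpowers_le.2 (pow_mem hKD 2)) (hVD hv)
    (orderOf_dvd_iff_pow_eq_one.1 ?_)
  rw [hc]
  refine (dvd_trans ?_ (Nat.pow_dvd_pow 2 (show b ≤ a - 1 by omega)))
  rw [← hb, ← orderOf_mk v hv]
  exact orderOf_dvd_natCard (⟨v, hv⟩ : V)

/-- An involution outside `V` lies in at most one Sylow 2-subgroup. -/
theorem eq_of_involution {i : G} (hi : i ^ 2 = 1) (hiV : i ∉ V) {S T : Sylow 2 G}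
    (hS : i ∈ (S : Subgroup G)) (hT : i ∈ (T : Subgroup G)) : S = T := by
  by_contra hne
  obtain ⟨v, hv, hv2⟩ := h.four
  have := h.le_zpowers_sq hne hS hT hiV hv
  rw [hi, zpowers_one_eq_bot, mem_bot] at this
  exact hv2 (by rw [this, one_pow])

/-- A 2-element which conjugates `K` into the only Sylow subgroup containing `K` lies in it. -/
theorem mem_of_conj {K y : G} {S T : Sylow 2 G} (hKS : K ∈ (S : Subgroup G))
    (huniq : ∀ R : Sylow 2 G, K ∈ (R : Subgroup G) → R = S) (hy : y ∈ (T : Subgroup G))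
    (hconj : y⁻¹ * K * y ∈ (S : Subgroup G)) : y ∈ (S : Subgroup G) := by
  have h1 : y • S = S := huniq _ (by
    rw [Sylow.coe_subgroup_smul, mem_pointwise_smul_iff_inv_smul_mem, ← map_inv, MulAut.smul_def,
      MulAut.conj_apply, inv_inv]
    exact hconj)
  have h2 : y ∈ (T : Subgroup G) ⊓ normalizer ((S : Subgroup G) : Set G) :=
    ⟨hy, Sylow.smul_eq_iff_mem_normalizer.1 h1⟩
  exact ((T.2.inf_normalizer_sylow S).le h2).2

/-- Involutions modulo `V` in different Sylow 2-subgroups are conjugate modulo `V`. -/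
theorem conj_mod {x y : G} {S T : Sylow 2 G} (hne : S ≠ T) (hxS : x ∈ (S : Subgroup G))
    (hyT : y ∈ (T : Subgroup G)) (hy : y ^ 2 = 1) (hyC : y ∈ centralizer (V : Set G)) (hyV : y ∉ V)
    (hx : x ∉ V) (hx2 : x ^ 2 ∈ V) (hxC : x ∈ centralizer (V : Set G) → x ^ 2 = 1) :
    ∃ g : G, (g * x * g⁻¹) * y⁻¹ ∈ V := by
  haveI := h.normal
  set t := x * y with ht
  set a := x ^ 2 with ha
  have hyy : y⁻¹ = y := inv_eq_of_mul_eq_one_right (by rw [← pow_two]; exact hy)
  have hya : Commute y a := (mem_centralizer_iff.1 hyC a hx2).symm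
  have hxa : Commute x a := Commute.self_pow x 2
  have hta : Commute t a := hxa.mul_left hya
  have ht' : t⁻¹ * a = y * x := by rw [ht, mul_inv_rev, hyy, ha, pow_two]; group
  have hxt : x * t * x⁻¹ = t⁻¹ * a := by
    calc x * t * x⁻¹ = (a * y) * x⁻¹ := by rw [ht, ha, pow_two]; group
      _ = (y * a) * x⁻¹ := by rw [hya.eq]
      _ = t⁻¹ * a := by rw [ht', ha, pow_two]; group
  have hyt : y * t * y⁻¹ = t⁻¹ * a := by rw [ht', ht]; group
  set π := QuotientGroup.mk' V
  have hπ : ∀ u, π u = 1 ↔ u ∈ V := fun u => QuotientGroup.eq_one_iff u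
  set n := orderOf (π t) with hn
  rcases Nat.even_or_odd n with ⟨k, hk⟩ | ⟨k, hk⟩
  swap
  · refine ⟨t ^ k, ?_⟩
    rw [← hπ]
    have hX : π x * π x = 1 := by
      rw [← map_mul, hπ, ← pow_two]; exact hx2
    have hY : π y * π y = 1 := by rw [← map_mul, ← pow_two, hy, map_one]
    have hXT : π x * π t * (π x)⁻¹ = (π t)⁻¹ := by
      rw [← map_inv, ← map_mul, ← map_mul, hxt, map_mul, map_inv, (hπ a).2 hx2, mul_one]
    have hTn : π t ^ (2 * k + 1) = 1 := by rw [← hk, hn, pow_orderOf_eq_one]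
    have e2 : π t ^ k * π x * (π t ^ k)⁻¹ = π t ^ (2 * k) * π x := by
      have e3 : π x * (π t ^ k)⁻¹ = π t ^ k * π x := by
        have := congrArg (· ^ k) hXT
        simp only [conj_pow, inv_pow] at this
        calc π x * (π t ^ k)⁻¹ = (π x * π t ^ k * (π x)⁻¹)⁻¹ * π x := by group
          _ = π t ^ k * π x := by rw [this, inv_inv]
      rw [mul_assoc, e3, ← mul_assoc, ← pow_add, two_mul]
    rw [map_mul, map_mul, map_mul, map_inv, map_inv, map_pow, e2, ← hyy, map_inv, inv_inv]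
    have e4 : π t ^ (2 * k) = (π t)⁻¹ := eq_inv_of_mul_eq_one_left (by rw [← pow_succ, hTn])
    rw [e4, ht, map_mul, mul_inv_rev, mul_assoc ((π y)⁻¹), inv_mul_cancel, mul_one, inv_mul_cancel]
  · exfalso
    set K := t ^ k with hK
    have hn0 : 0 < n := hn ▸ orderOf_pos _
    have hK2 : K ^ 2 ∈ V := by
      rw [← hπ, map_pow, hK, map_pow, ← pow_mul, show k * 2 = n by omega, hn, pow_orderOf_eq_one]
    have hKV : K ∉ V := by
      rw [← hπ, hK, map_pow, ← orderOf_dvd_iff_pow_eq_one, ← hn]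
      intro hd
      have := Nat.le_of_dvd (by omega) hd
      omega
    have hxK : x * K * x⁻¹ = K⁻¹ * a ^ k := by
      rw [hK, ← conj_pow, hxt, hta.inv_left.mul_pow, inv_pow]
    have hyK : y * K * y⁻¹ = K⁻¹ * a ^ k := by
      rw [hK, ← conj_pow, hyt, hta.inv_left.mul_pow, inv_pow]
    have hKa : Commute K (a ^ k) := hta.pow_pow k k
    obtain ⟨S', hKS'⟩ := h.mem_of_two hK2
    by_cases huniq : ∀ R : Sylow 2 G, K ∈ (R : Subgroup G) → R = S'
    · have hyS' : y ∈ (S' : Subgroup G) := h.mem_of_conj hKS' huniq hyT (by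
        have e : y⁻¹ * K * y = K⁻¹ * a ^ k := by rw [← hyK, hyy]
        rw [e]
        exact mul_mem (inv_mem hKS') (h.le_sylow S' (pow_mem hx2 k)))
      have hxS' : x ∈ (S' : Subgroup G) := h.mem_of_conj hKS' huniq hxS (by
        have e : x⁻¹ * K * x = a ^ k * K⁻¹ := by
          have h1 := congrArg (fun u => x⁻¹ * u * x) hxK
          simp only [mul_assoc, inv_mul_cancel, mul_one, inv_mul_cancel_left] at h1
          have h2 : x⁻¹ * K⁻¹ * x * a ^ k = K := by
            rw [mul_assoc (x⁻¹ * K⁻¹), (hxa.pow_right k).eq, ← mul_assoc]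
            simpa [mul_assoc] using h1.symm
          calc x⁻¹ * K * x = (x⁻¹ * K⁻¹ * x)⁻¹ := by group
            _ = (K * (a ^ k)⁻¹)⁻¹ := by rw [← eq_mul_inv_of_mul_eq h2]
            _ = a ^ k * K⁻¹ := by rw [mul_inv_rev, inv_inv]
        rw [e]
        exact mul_mem (h.le_sylow S' (pow_mem hx2 k)) (inv_mem hKS'))
      have hS : S = S' := by
        by_cases hxc : x ∈ centralizer (V : Set G)
        · exact h.eq_of_involution (hxC hxc) hx hxS hxS'
        · exact h.eq_of_not_commute hxc hxS hxS'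
      exact hne (hS.trans (h.eq_of_involution hy hyV hyT hyS').symm)
    · push Not at huniq
      obtain ⟨R, hKR, hR⟩ := huniq
      have hle := h.le_zpowers_sq hR hKR hKS' hKV
      have hyK2 : y * K ^ 2 * y⁻¹ = K ^ 2 := by
        rw [← mem_centralizer_iff.1 hyC _ hK2, mul_inv_cancel_right]
      have hxK2 : x * K ^ 2 * x⁻¹ = K ^ 2 := by
        rw [← conj_pow, hxK, ← hyK, conj_pow, hyK2]
      have hxc : x ∈ centralizer (V : Set G) := by
        refine mem_centralizer_iff.2 fun v hv => ?_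
        have : zpowers (K ^ 2) ≤ centralizer {x} := by
          rw [zpowers_le, mem_centralizer_singleton_iff]
          exact (mul_inv_eq_iff_eq_mul.1 hxK2).symm
        exact mem_centralizer_singleton_iff.1 (this (hle hv))
      have hK4 : (K ^ 2) ^ 2 = 1 := by
        have h1 : K ^ 2 = (K⁻¹ * a ^ k) ^ 2 := by rw [← hyK, conj_pow, hyK2]
        rw [show a = 1 from hxC hxc, one_pow, mul_one, inv_pow] at h1
        rw [pow_two]
        nth_rewrite 1 [h1]
        exact inv_mul_cancel _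
      obtain ⟨v, hv, hv2⟩ := h.four
      obtain ⟨j, rfl⟩ := mem_zpowers_iff.1 (hle hv)
      refine hv2 ?_
      rw [← zpow_natCast ((K ^ 2) ^ j), ← zpow_mul, mul_comm, zpow_mul, zpow_natCast, hK4, one_zpow]

end Hyp

end CfsgLib.SylowCyclicInt
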